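import Groth.Agent.BertiniJetLib.Algebra

/-!
# Members with smooth zero locus (affine version)
-/

set_option autoImplicit false
set_option linter.style.haveILetI false

universe u

open TensorProduct

noncomputable section

namespace BertiniJetLib

variable {k : Type u} [Field k]

/-- A finite type algebra is smooth when it is smooth at all maximal ideals. -/
theorem smooth_of_maximal {B : Type u} [CommRing B] [Algebra k B] [Algebra.FiniteType k B]
    (h : ∀ (Q : Ideal B) [Q.IsMaximal], Algebra.IsSmoothAt k Q) : Algebra.Smooth k B := by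
  haveI : Algebra.FinitePresentation k B := Algebra.FinitePresentation.of_finiteType.mp ‹_›
  refine ⟨(Algebra.smoothLocus_eq_univ_iff (R := k) (A := B)).mp ?_, inferInstance⟩
  refine  (Set.eq_univ_iff_forall.mpr fun Q => ?_)
  obtain ⟨M, hM, hQM⟩ := Q.asIdeal.exists_le_maximal Q.2.ne_top
  exact ((PrimeSpectrum.le_iff_specializes Q ⟨M, hM.isPrime⟩).mp hQM).mem_open Algebra.isOpen_smoothLocus
    (h M : Algebra.IsSmoothAt k M)

/-- Enough one-jets make the general member smooth. -/
theorem exists_smooth_equation {A : Type u} [CommRing A] [Algebra k A] [Algebra.FiniteType k A] [Algebra.Smooth k A]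
    {m : ℕ} (a : Fin m → A) (b : A)
    (hjet : ∀ p : Ideal A, p.IsMaximal → ∀ t : A, ∃ c : Fin m → k,
      t - ∑ i, algebraMap k A (c i) * a i ∈ p ^ 2) :
    ∃ q : MvPolynomial (Fin m) k, q ≠ 0 ∧ ∀ c : Fin m → k, MvPolynomial.eval c q ≠ 0 →
      Algebra.Smooth k (A ⧸ Ideal.span {b + ∑ i, algebraMap k A (c i) * a i}) := by
  classical
  have hchart : ∀ x : PrimeSpectrum A, ∃ (g : A) (e : ℕ), g ∉ x.asIdeal ∧
      Algebra.IsStandardSmoothOfRelativeDimension e k (Localization.Away g) := fun x => by
    haveI : Algebra.IsSmoothAt k x.asIdeal :=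
      (Algebra.smoothLocus_eq_univ (R := k) (A := A)).ge (Set.mem_univ x)
    obtain ⟨g, e, hg, -, he⟩ := HypTransLib.exists_std_chart (k := k) x.asIdeal
    exact ⟨g, e, hg, he⟩
  choose g e hg he using hchart
  obtain ⟨S, hS⟩ := isCompact_univ.elim_finite_subcover
    (fun x : PrimeSpectrum A => (PrimeSpectrum.basicOpen (g x) : Set (PrimeSpectrum A)))
    (fun x => (PrimeSpectrum.basicOpen (g x)).isOpen) (fun x _ => Set.mem_iUnion.2 ⟨x, hg x⟩)
  choose q hq0 hq using fun x =>
    haveI := he x
    exists_equation (k := k) (g x) (e x) a b fun p hp _ => hjet p hp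
  refine ⟨∏ x ∈ S, q x, Finset.prod_ne_zero_iff.2 fun x _ => hq0 x, fun c hc => ?_⟩
  refine smooth_of_maximal fun Q _ => ?_
  let F := b + ∑ i, algebraMap k A (c i) * a i
  haveI : Algebra.FinitePresentation k (A ⧸ Ideal.span {F}) :=
    Algebra.FinitePresentation.of_finiteType.mp inferInstance
  haveI : (Q.comap (Ideal.Quotient.mk (Ideal.span {F}))).IsMaximal :=
    Ideal.comap_isMaximal_of_surjective _ Ideal.Quotient.mk_surjective
  obtain ⟨x, hxS, hx⟩ := Set.mem_iUnion₂.1
    (hS (Set.mem_univ (⟨Q.comap (Ideal.Quotient.mk (Ideal.span {F})), inferInstance⟩ : PrimeSpectrum A)))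
  haveI := he x
  have hcx : MvPolynomial.eval c (q x) ≠ 0 := fun h => hc (by
    rw [map_prod]; exact Finset.prod_eq_zero hxS h)
  have hker : ∀ z, algebraMap A Q.ResidueField z = 0 ↔ z ∈ Q.comap (Ideal.Quotient.mk (Ideal.span {F})) := fun z => by
    rw [IsScalarTower.algebraMap_apply A (A ⧸ Ideal.span {F}) Q.ResidueField,
      Ideal.algebraMap_residueField_eq_zero]
    rfl
  have hF : F ∈ Q.comap (Ideal.Quotient.mk (Ideal.span {F})) := by
    rw [Ideal.mem_comap, Ideal.Quotient.eq_zero_iff_mem.2 (Ideal.mem_span_singleton_self F)]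
    exact Q.zero_mem
  obtain ⟨f, hfQ, hf⟩ := HypTransLib.exists_smooth_hyperplane (k := k) (g x) (e x) F Q hx
    (hq x c hcx _ Q.ResidueField hker hx hF)
  haveI := hf
  haveI : Algebra.IsStandardSmooth k (Localization.Away f) :=
    Algebra.IsStandardSmoothOfRelativeDimension.isStandardSmooth (e x - 1)
  haveI : Algebra.Smooth k (Localization.Away f) := inferInstance
  exact Algebra.basicOpen_subset_smoothLocus_iff.2 inferInstance
    (show (⟨Q, inferInstance⟩ : PrimeSpectrum (A ⧸ Ideal.span {F})) ∈ PrimeSpectrum.basicOpen f from hfQ)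

end BertiniJetLib

end
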