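import Groth.Agent.MeroLib.ZeroScheme
import Groth.Agent.BertiniJetLib.Affine
import Groth.Prelude.Def_Formal
import Mathlib.AlgebraicGeometry.Morphisms.Smooth

/-!
# Smoothness of zero schemes, read on a trivializing cover
-/

set_option autoImplicit false
set_option linter.style.haveILetI false

universe u

open CategoryTheory CategoryTheory.Limits AlgebraicGeometry TopologicalSpace Opposite
open AmpleLib (GenAt GenOn res)

noncomputable section

namespace BertiniJetLib

variable {k : Type u} [Field k] {Y : Scheme.{u}}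

/-- The `k`-algebra structure on the functions on an open. -/
abbrev algOn (f : Y ⟶ Spec (CommRingCat.of k)) (W : Y.Opens) : Algebra k Γ(Y, W) :=
  ((Y.presheaf.map (homOfLE (le_top (a := W))).op).hom.comp (Coh.toGlobal f)).toAlgebra

theorem appLE_eq (f : Y ⟶ Spec (CommRingCat.of k)) (W : Y.Opens) :
    (f.appLE ⊤ W le_top).hom.comp (Scheme.ΓSpecIso (CommRingCat.of k)).inv.hom =
      (Y.presheaf.map (homOfLE (le_top (a := W))).op).hom.comp (Coh.toGlobal f) := rfl

theorem smooth_algOn (f : Y ⟶ Spec (CommRingCat.of k)) [Smooth f] (W : Y.affineOpens) :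
    letI := algOn f W.1
    Algebra.Smooth k Γ(Y, W.1) := by
  have h := HasRingHomProperty.appLE @Smooth f inferInstance ⟨⊤, isAffineOpen_top _⟩ W le_top
  have h1 : RingHom.Smooth (Scheme.ΓSpecIso (CommRingCat.of k)).inv.hom := RingHom.Smooth.of_bijective
    (Scheme.ΓSpecIso (CommRingCat.of k)).symm.commRingCatIsoToRingEquiv.bijective
  letI := algOn f W.1
  exact RingHom.smooth_algebraMap.1 (h1.comp h)

/-- Smoothness of a closed subscheme, checked on the ideals of an affine cover. -/
theorem smooth_subschemeι_comp (f : Y ⟶ Spec (CommRingCat.of k)) (I : Y.IdealSheafData) {ι : Type*}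
    (W : ι → Y.affineOpens) (hW : ⨆ i, (W i : Y.Opens) = ⊤)
    (h : ∀ i, letI := algOn f (W i).1; Algebra.Smooth k (Γ(Y, (W i).1) ⧸ I.ideal (W i))) :
    Smooth (I.subschemeι ≫ f) := by
  refine HasRingHomProperty.of_iSup_eq_top (P := @Smooth) (fun i => ⟨I.subschemeι ⁻¹ᵁ (W i).1,
    (W i).2.preimage I.subschemeι⟩) (by
      have h2 := congrArg (fun U => I.subschemeι ⁻¹ᵁ U) hW
      rw [show I.subschemeι ⁻¹ᵁ (⨆ i, (W i : Y.Opens)) = ⨆ i, I.subschemeι ⁻¹ᵁ (W i).1 from
        Scheme.Hom.preimage_iSup _ _] at h2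
      exact h2) fun i => ?_
  letI := algOn f (W i).1
  let e : k ≃+* Γ(Spec (CommRingCat.of k), ⊤) :=
    (Scheme.ΓSpecIso (CommRingCat.of k)).symm.commRingCatIsoToRingEquiv
  let eQ := (I.subschemeObjIso (W i)).symm.commRingCatIsoToRingEquiv
  have hfac : ((I.subschemeι ≫ f).appLE ⊤ (I.subschemeι ⁻¹ᵁ (W i).1) le_top).hom =
      (eQ.toRingHom.comp (algebraMap k (Γ(Y, (W i).1) ⧸ I.ideal (W i)))).comp e.symm.toRingHom := by
    ext x
    obtain ⟨c, rfl⟩ := e.surjective x
    rw [RingHom.comp_apply, show e.symm.toRingHom (e c) = c from e.symm_apply_apply c,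
      ← Scheme.Hom.appLE_comp_appLE I.subschemeι f ⊤ (W i).1 _ le_top le_rfl, CommRingCat.comp_apply,
      ← Scheme.Hom.app_eq_appLE,
      I.subschemeι_app (W i)]
    rfl
  rw [hfac]
  exact RingHom.Smooth.comp (RingHom.Smooth.of_bijective e.symm.bijective)
    (RingHom.Smooth.comp (RingHom.smooth_algebraMap.2 (h i)) (RingHom.Smooth.of_bijective eQ.bijective))

/-- The value of a sum of sections over an open. -/
def secHom (L : Y.Modules) (U : Y.Opens) : (Coh.structureModule Y ⟶ L) →+ Γ(L, U) :=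
  AddMonoidHom.mk' (fun s => MeroLib.secOn s U) fun _ _ => rfl

variable [Y.Over (Spec (CommRingCat.of k))]

theorem secOn_smulMod {L : Y.Modules} (c : k) (s : Coh.structureModule Y ⟶ L) (U : Y.Opens) :
    letI := algOn (Y ↘ Spec (CommRingCat.of k)) U
    MeroLib.secOn (Formal.smulMod k (Coh.structureModule Y) c ≫ s) U = algebraMap k Γ(Y, U) c • MeroLib.secOn s U :=
  (s.val.app (op U)).hom.map_smul (Coh.resTop Y (op U) (Coh.toGlobal (Y ↘ Spec (CommRingCat.of k)) c))
    (1 : Y.ringCatSheaf.obj.obj (op U))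

theorem secOn_add_sum {L : Y.Modules} {m : ℕ} (f : Coh.structureModule Y ⟶ L)
    (s : Fin m → (Coh.structureModule Y ⟶ L)) (c : Fin m → k) (U : Y.Opens) :
    letI := algOn (Y ↘ Spec (CommRingCat.of k)) U
    MeroLib.secOn (f + ∑ i, Formal.smulMod k (Coh.structureModule Y) (c i) ≫ s i) U =
      MeroLib.secOn f U + ∑ i, algebraMap k Γ(Y, U) (c i) • MeroLib.secOn (s i) U := by
  refine (map_add (secHom L U) _ _).trans (congrArg (secHom L U f + ·) ?_)
  exact (map_sum (secHom L U) _ _).trans (Finset.sum_congr rfl fun i _ => secOn_smulMod (c i) (s i) U)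

theorem secOn_sum {L : Y.Modules} {m : ℕ} (s : Fin m → (Coh.structureModule Y ⟶ L)) (c : Fin m → k)
    (U : Y.Opens) :
    letI := algOn (Y ↘ Spec (CommRingCat.of k)) U
    MeroLib.secOn (∑ i, Formal.smulMod k (Coh.structureModule Y) (c i) ≫ s i) U =
      ∑ i, algebraMap k Γ(Y, U) (c i) • MeroLib.secOn (s i) U := by
  exact (map_sum (secHom L U) _ _).trans (Finset.sum_congr rfl fun i _ => secOn_smulMod (c i) (s i) U)

end BertiniJetLib

end
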