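import Groth.Agent.WeilLib.Dim
import Groth.Agent.CIGenLib.SmoothPts
import Groth.Agent.HypTransLib.Local

/-!
# Functions with enough one-jets have only few singular members (affine version)
-/

set_option autoImplicit false
set_option linter.style.haveILetI false
set_option linter.unusedSectionVars false

universe u

open TensorProduct

noncomputable section

namespace BertiniJetLib

variable {k : Type u} [Field k]

/-- An algebra of smaller dimension cannot contain a polynomial algebra. -/
theorem exists_ne_zero_of_dim_lt {m : ℕ} {B : Type u} [CommRing B] [Algebra k B] [Algebra.FiniteType k B]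
    (ψ : MvPolynomial (Fin m) k →ₐ[k] B) (hdim : ringKrullDim B < (m : WithBot ℕ∞)) :
    ∃ q, q ≠ 0 ∧ ψ q = 0 := by
  by_contra h
  have hinj : Function.Injective ψ := (injective_iff_map_eq_zero ψ).2 fun q hq => by
    by_contra hne
    exact h ⟨q, hne, hq⟩
  have hker : (⊥ : Ideal B).comap ψ.toRingHom = ⊥ := by
    rw [← RingHom.ker_eq_comap_bot]
    exact (RingHom.injective_iff_ker_eq_bot _).1 hinj
  obtain ⟨P, hP, hPc⟩ := Ideal.exists_minimalPrimes_comap_eq ψ.toRingHom (I := ⊥) (⊥ : Ideal (MvPolynomial (Fin m) k)) (by
    rw [hker, Ideal.minimalPrimes_eq_subsingleton_self]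
    exact Set.mem_singleton _)
  haveI : P.IsPrime := hP.1.1
  obtain ⟨s, hs, ht⟩ := WeilLib.dim_eq_trdeg (k := k) (B ⧸ P) (FractionRing (B ⧸ P))
  have hli : AlgebraicIndependent k
      (fun i => algebraMap (B ⧸ P) (FractionRing (B ⧸ P)) (Ideal.Quotient.mk P (ψ (MvPolynomial.X i)))) := by
    let Φ : MvPolynomial (Fin m) k →ₐ[k] FractionRing (B ⧸ P) :=
      (IsScalarTower.toAlgHom k (B ⧸ P) (FractionRing (B ⧸ P))).comp ((Ideal.Quotient.mkₐ k P).comp ψ)
    show Function.Injective (MvPolynomial.aeval fun i => Φ (MvPolynomial.X i))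
    rw [show (fun i => Φ (MvPolynomial.X i)) = ⇑Φ ∘ MvPolynomial.X from rfl, ← MvPolynomial.aeval_unique Φ]
    refine (IsFractionRing.injective (B ⧸ P) (FractionRing (B ⧸ P))).comp ((injective_iff_map_eq_zero ((Ideal.Quotient.mkₐ k P).comp ψ)).2 fun q hq => ?_)
    have hmem : ψ q ∈ P := Ideal.Quotient.eq_zero_iff_mem.1 (show Ideal.Quotient.mk P (ψ q) = 0 from hq)
    have : q ∈ P.comap ψ.toRingHom := hmem
    rw [hPc] at this
    exact this
  have h1 := hli.lift_cardinalMk_le_trdeg
  rw [ht, Cardinal.mk_fin, Cardinal.lift_natCast, Cardinal.lift_natCast, Nat.cast_le] at h1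
  have h2 : ringKrullDim (B ⧸ P) ≤ ringKrullDim B := ringKrullDim_quotient_le P
  rw [hs] at h2
  exact absurd (lt_of_le_of_lt h2 hdim) (not_lt.2 (by exact_mod_cast h1))

theorem ringKrullDim_le_of_std (e : ℕ) (R : Type u) [CommRing R] [Algebra k R]
    [Algebra.IsStandardSmoothOfRelativeDimension e k R] : ringKrullDim R ≤ (e : WithBot ℕ∞) :=
  ringKrullDim_le_iff_isMaximal_height_le (e : ℕ∞) |>.2 fun P hP => by
    have h := (CIGen.stdSmooth_maximal k e R P).2
    rw [IsLocalization.AtPrime.ringKrullDim_eq_height P (Localization.AtPrime P)] at h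
    exact le_of_eq (by exact_mod_cast h)

/-- A square system with invertible matrix in a polynomial coefficient vector cuts out a small set. -/
theorem exists_relation {R : Type u} [CommRing R] [Algebra k R] [Algebra.FiniteType k R] (e : ℕ)
    (hR : ringKrullDim R ≤ (e : WithBot ℕ∞)) {I : Type} [Fintype I] [DecidableEq I] (hI : Fintype.card I = e + 1)
    {m : ℕ} (τ : I → Fin m) (hinj : Function.Injective τ) (M₀ : I → R) (Ma : Fin m → I → R)
    (hdet : IsUnit (Matrix.of fun o o' => Ma (τ o') o).det) :
    ∃ q : MvPolynomial (Fin m) k, q ≠ 0 ∧ ∀ (K : Type u) [Field K] [Algebra k K] (φ : R →ₐ[k] K) (c : Fin m → k),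
      (∀ o, φ (M₀ o) + ∑ i, algebraMap k K (c i) * φ (Ma i o) = 0) → MvPolynomial.eval c q = 0 := by
  classical
  haveI : IsNoetherianRing R := Algebra.FiniteType.isNoetherianRing k R
  let toB : R →ₐ[k] MvPolynomial {i : Fin m // i ∉ Set.range τ} R := IsScalarTower.toAlgHom k R _
  let M : Matrix I I (MvPolynomial {i : Fin m // i ∉ Set.range τ} R) := Matrix.of fun o o' => toB (Ma (τ o') o)
  let rhs : I → MvPolynomial {i : Fin m // i ∉ Set.range τ} R := fun o =>
    -(toB (M₀ o) + ∑ i, MvPolynomial.X i * toB (Ma (i : {i : Fin m // i ∉ Set.range τ}) o))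
  have hdetB : IsUnit M.det := by
    show IsUnit (toB.mapMatrix (Matrix.of fun o o' => Ma (τ o') o)).det
    rw [← AlgHom.map_det]
    exact hdet.map toB
  let w : I → MvPolynomial {i : Fin m // i ∉ Set.range τ} R := M⁻¹.mulVec rhs
  let val : Fin m → MvPolynomial {i : Fin m // i ∉ Set.range τ} R := fun i =>
    if h : i ∈ Set.range τ then w h.choose else MvPolynomial.X ⟨i, h⟩
  haveI : Algebra.FiniteType k (MvPolynomial {i : Fin m // i ∉ Set.range τ} R) :=
    Algebra.FiniteType.trans (S := R) inferInstance inferInstance
  have hrest : Nat.card {i : Fin m // i ∉ Set.range τ} + (e + 1) = m := by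
    rw [Nat.card_eq_fintype_card, Fintype.card_subtype_compl, Fintype.card_fin,
      show Fintype.card {i // i ∈ Set.range τ} = e + 1 from by
        rw [← hI]; exact Fintype.card_congr (Equiv.ofInjective τ hinj).symm]
    have := Fintype.card_le_of_injective τ hinj
    rw [hI, Fintype.card_fin] at this
    omega
  have hdim : ringKrullDim (MvPolynomial {i : Fin m // i ∉ Set.range τ} R) < (m : WithBot ℕ∞) := by
    rw [MvPolynomial.ringKrullDim_of_isNoetherianRing]
    refine lt_of_le_of_lt (add_le_add hR le_rfl) ?_
    exact_mod_cast (show e + Nat.card {i : Fin m // i ∉ Set.range τ} < m by omega)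
  obtain ⟨q, hq, hq0⟩ := exists_ne_zero_of_dim_lt (MvPolynomial.aeval val : MvPolynomial (Fin m) k →ₐ[k] _) hdim
  refine ⟨q, hq, fun K _ _ φ c hsys => ?_⟩
  let η : MvPolynomial {i : Fin m // i ∉ Set.range τ} R →ₐ[k] K :=
    { MvPolynomial.eval₂Hom φ.toRingHom (fun i => algebraMap k K (c (i : {i : Fin m // i ∉ Set.range τ}))) with
      commutes' := fun r => by
        show MvPolynomial.eval₂Hom φ.toRingHom _ (algebraMap k (MvPolynomial _ R) r) = _
        rw [IsScalarTower.algebraMap_apply k R (MvPolynomial _ R), MvPolynomial.algebraMap_eq, MvPolynomial.eval₂Hom_C]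
        exact φ.commutes r }
  have hηB : ∀ x, η (toB x) = φ x := fun x => MvPolynomial.eval₂Hom_C _ _ x
  have hηX : ∀ i : {i : Fin m // i ∉ Set.range τ}, η (MvPolynomial.X i) = algebraMap k K (c i) := fun i =>
    MvPolynomial.eval₂Hom_X' _ _ i
  have hw : M.mulVec w = rhs := by
    rw [Matrix.mulVec_mulVec, Matrix.mul_nonsing_inv _ hdetB, Matrix.one_mulVec]
  have hsplit : ∀ o, ∑ i, algebraMap k K (c i) * φ (Ma i o) =
      ∑ o', algebraMap k K (c (τ o')) * φ (Ma (τ o') o) +
        ∑ i : {i : Fin m // i ∉ Set.range τ}, algebraMap k K (c i) * φ (Ma i o) := by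
    intro o
    rw [← Fintype.sum_subtype_add_sum_subtype (fun i => i ∈ Set.range τ)]
    refine congrArg (· + _) ?_
    symm
    convert (Equiv.ofInjective τ hinj).sum_comp
      (fun i : {i // i ∈ Set.range τ} => algebraMap k K (c i) * φ (Ma i o)) using 2
    all_goals first
      | rfl
      | simp
      | exact Finset.ext fun x => by simp
  have hcw : (fun o => η (w o)) = fun o => algebraMap k K (c (τ o)) := by
    have hdetK : IsUnit (η.mapMatrix M).det := by
      rw [← AlgHom.map_det]
      exact hdetB.map η
    refine Matrix.mulVec_injective_iff_isUnit.2 ((Matrix.isUnit_iff_isUnit_det _).2 hdetK) ?_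
    funext o
    have h1 := congrArg η (congrFun hw o)
    rw [Matrix.mulVec, dotProduct, map_sum] at h1
    simp only [map_mul, rhs, map_neg, map_add, map_sum, hηB, hηX] at h1
    show ∑ o', η (M o o') * η (w o') = ∑ o', η (M o o') * algebraMap k K (c (τ o'))
    rw [h1]
    have h2 := hsys o
    rw [hsplit o] at h2
    have h3 : ∑ o', η (M o o') * algebraMap k K (c (τ o')) =
        ∑ o', algebraMap k K (c (τ o')) * φ (Ma (τ o') o) := Finset.sum_congr rfl fun o' _ => by
      rw [mul_comm]
      exact congrArg _ (hηB _)
    rw [h3]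
    linear_combination -h2
  have hcomp : η.comp (MvPolynomial.aeval val) = MvPolynomial.aeval (fun i => algebraMap k K (c i)) := by
    refine MvPolynomial.algHom_ext fun i => ?_
    rw [AlgHom.comp_apply, MvPolynomial.aeval_X, MvPolynomial.aeval_X]
    simp only [val]
    split
    · rename_i h
      rw [congrFun hcw h.choose, h.choose_spec]
    · exact hηX _
  have h := AlgHom.congr_fun hcomp q
  rw [AlgHom.comp_apply, hq0, map_zero] at h
  refine (map_eq_zero (algebraMap k K)).1 ?_
  rw [h]
  exact (MvPolynomial.aeval_algebraMap_apply (R := k) (A := k) K c q).symm.trans rfl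

/-- Coefficient vectors with a singular member over a chart satisfy an equation. -/
theorem exists_equation {A : Type u} [CommRing A] [Algebra k A] [Algebra.FiniteType k A]
    (g : A) (e : ℕ) [Algebra.IsStandardSmoothOfRelativeDimension e k (Localization.Away g)]
    {m : ℕ} (a : Fin m → A) (b : A)
    (hjet : ∀ p : Ideal A, p.IsMaximal → g ∉ p → ∀ t : A, ∃ c : Fin m → k,
      t - ∑ i, algebraMap k A (c i) * a i ∈ p ^ 2) :
    ∃ q : MvPolynomial (Fin m) k, q ≠ 0 ∧ ∀ c : Fin m → k, MvPolynomial.eval c q ≠ 0 →
      ∀ (p : Ideal A) [p.IsMaximal] (K : Type u) [Field K] [Algebra k K] [Algebra A K] [IsScalarTower k A K],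
        (∀ x, algebraMap A K x = 0 ↔ x ∈ p) → g ∉ p → b + ∑ i, algebraMap k A (c i) * a i ∈ p →
        (1 : K) ⊗ₜ[A] KaehlerDifferential.D k A (b + ∑ i, algebraMap k A (c i) * a i) ≠ 0 := by
  classical
  let L := Localization.Away g
  by_cases hL : Nontrivial L
  swap
  · refine ⟨1, one_ne_zero, fun c _ p _ K _ _ _ _ _ hgp _ => absurd ?_ hL⟩
    refine ⟨0, 1, fun h01 => hgp ?_⟩
    obtain ⟨⟨_, l, rfl⟩, hl⟩ := (IsLocalization.map_eq_zero_iff (Submonoid.powers g) L (1 : A)).1
      ((map_one _).trans h01.symm)
    exact Ideal.IsPrime.mem_of_pow_mem inferInstance l (by rw [← mul_one (g ^ l)]; exact hl ▸ p.zero_mem)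
  haveI : Algebra.IsStandardSmooth k L := Algebra.IsStandardSmoothOfRelativeDimension.isStandardSmooth e
  haveI : Module.Free L Ω[L⁄k] := inferInstance
  have hrank : Module.finrank L Ω[L⁄k] = e :=
    Module.finrank_eq_of_rank_eq (Algebra.IsStandardSmoothOfRelativeDimension.rank_kaehlerDifferential e)
  let bΩ := Module.finBasisOfFinrankEq L Ω[L⁄k] hrank
  let lam : A → Fin e → L := fun t j => bΩ.repr (KaehlerDifferential.D k L (algebraMap A L t)) j
  let V : A → Option (Fin e) → L := fun t o => o.elim (algebraMap A L t) (lam t)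
  have hVadd : ∀ s t, V (s + t) = V s + V t := fun s t => funext fun o => by
    cases o <;> simp [V, lam]
  have hVsmul : ∀ (c : k) t, V (algebraMap k A c * t) = algebraMap k L c • V t := fun c t => funext fun o => by
    cases o with
    | none =>
      show algebraMap A L (algebraMap k A c * t) = algebraMap k L c * algebraMap A L t
      rw [map_mul, ← IsScalarTower.algebraMap_apply]
    | some j =>
      show bΩ.repr (KaehlerDifferential.D k L (algebraMap A L (algebraMap k A c * t))) j =
        algebraMap k L c * bΩ.repr (KaehlerDifferential.D k L (algebraMap A L t)) j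
      rw [map_mul, ← IsScalarTower.algebraMap_apply, Derivation.leibniz, Derivation.map_algebraMap, smul_zero,
        add_zero, map_smul, Finsupp.smul_apply, smul_eq_mul]
  have hVsum : ∀ (c : Fin m → k), V (b + ∑ i, algebraMap k A (c i) * a i) = V b + ∑ i, algebraMap k L (c i) • V (a i) := by
    intro c
    let Vh : A →+ (Option (Fin e) → L) := AddMonoidHom.mk' V hVadd
    show Vh _ = _
    rw [map_add, map_sum]
    exact congrArg (V b + ·) (Finset.sum_congr rfl fun i _ => hVsmul (c i) (a i))
  -- the equation attached to a choice of pivots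
  have hτ : ∀ τ : Option (Fin e) → Fin m, ∃ q : MvPolynomial (Fin m) k, q ≠ 0 ∧
      ∀ (K : Type u) [Field K] [Algebra k K] (φ : L →ₐ[k] K) (c : Fin m → k),
        φ (Matrix.of fun o o' => V (a (τ o')) o).det ≠ 0 →
        (∀ o, φ (V b o) + ∑ i, algebraMap k K (c i) * φ (V (a i) o) = 0) → MvPolynomial.eval c q = 0 := by
    intro τ
    by_cases hinj : Function.Injective τ
    swap
    · refine ⟨1, one_ne_zero, fun K _ _ φ c hne => absurd ?_ hne⟩
      obtain ⟨o, o', he, hne'⟩ : ∃ o o', τ o = τ o' ∧ o ≠ o' := by
        simp only [Function.Injective, not_forall] at hinj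
        obtain ⟨o, o', h1, h2⟩ := hinj
        exact ⟨o, o', h1, h2⟩
      rw [Matrix.det_zero_of_column_eq hne' fun i => by simp [he], map_zero]
    let Dt : L := (Matrix.of fun o o' => V (a (τ o')) o).det
    haveI : Algebra.IsStandardSmoothOfRelativeDimension 0 L (Localization.Away Dt) :=
      Algebra.IsStandardSmoothOfRelativeDimension.localization_away Dt
    haveI hADstd : Algebra.IsStandardSmoothOfRelativeDimension e k (Localization.Away Dt) := by
      have := Algebra.IsStandardSmoothOfRelativeDimension.trans e 0 k L (Localization.Away Dt)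
      rwa [zero_add] at this
    haveI : Algebra.IsStandardSmooth k (Localization.Away Dt) :=
      Algebra.IsStandardSmoothOfRelativeDimension.isStandardSmooth e
    let toD : L →ₐ[k] Localization.Away Dt := IsScalarTower.toAlgHom k L _
    obtain ⟨q, hq, hq0⟩ := exists_relation (k := k) (R := Localization.Away Dt) e (ringKrullDim_le_of_std (k := k) e _)
      (by simp) τ hinj (fun o => toD (V b o)) (fun i o => toD (V (a i) o)) (by
        show IsUnit (toD.mapMatrix (Matrix.of fun o o' => V (a (τ o')) o)).det
        rw [← AlgHom.map_det]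
        exact IsLocalization.Away.algebraMap_isUnit (S := Localization.Away Dt) Dt)
    refine ⟨q, hq, fun K _ _ φ c hne hsys => ?_⟩
    have hu : ∀ y : Submonoid.powers Dt, IsUnit (φ y) := by
      rintro ⟨_, l, rfl⟩
      show IsUnit (φ (Dt ^ l))
      rw [map_pow]
      exact (IsUnit.mk0 _ hne).pow l
    let φD : Localization.Away Dt →ₐ[k] K :=
      IsLocalization.liftAlgHom (M := Submonoid.powers Dt) (S := Localization.Away Dt) hu
    have hφD : ∀ x, φD (toD x) = φ x := fun x => by simp [φD, toD, IsLocalization.liftAlgHom]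
    exact hq0 K φD c fun o => by simpa only [hφD] using hsys o
  choose q hq0 hq using hτ
  refine ⟨∏ τ, q τ, Finset.prod_ne_zero_iff.2 fun τ _ => hq0 τ, fun c hc p _ K _ _ _ _ hK hgp hFp hdF => ?_⟩
  have hgK : algebraMap A K g ≠ 0 := fun h => hgp ((hK _).1 h)
  let φr : L →+* K := IsLocalization.Away.lift g (IsUnit.mk0 _ hgK)
  have hφr : ∀ t, φr (algebraMap A L t) = algebraMap A K t := fun t => IsLocalization.Away.lift_eq g _ t
  let φ : L →ₐ[k] K :=
    { φr with
      commutes' := fun r => by
        show φr (algebraMap k L r) = _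
        rw [IsScalarTower.algebraMap_apply k A L, hφr, ← IsScalarTower.algebraMap_apply] }
  let v : A → Option (Fin e) → K := fun t o => φ (V t o)
  -- the jet map kills the square of the point
  have hv0 : ∀ t ∈ p ^ 2, v t = 0 := by
    intro t ht
    rw [sq] at ht
    refine Submodule.mul_induction_on ht (fun x hx y hy => ?_) fun x y hx hy => ?_
    · have hx0 : φ (algebraMap A L x) = 0 := (hφr x).trans ((hK _).2 hx)
      have hy0 : φ (algebraMap A L y) = 0 := (hφr y).trans ((hK _).2 hy)
      funext o
      cases o with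
      | none => simp [v, V, hx0]
      | some j =>
        show φ (bΩ.repr (KaehlerDifferential.D k L (algebraMap A L (x * y))) j) = 0
        rw [map_mul, Derivation.leibniz, map_add, map_smul, map_smul, Finsupp.add_apply, Finsupp.smul_apply,
          Finsupp.smul_apply, smul_eq_mul, smul_eq_mul, map_add, map_mul, map_mul, hx0, hy0, zero_mul, zero_mul,
          add_zero]
    · funext o
      have := congrFun hx o
      have := congrFun hy o
      simp only [v] at *
      rw [hVadd, Pi.add_apply, map_add]
      simp_all
  have hvjet : ∀ t, v t ∈ Submodule.span K (Set.range fun i => v (a i)) := fun t => by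
    obtain ⟨c', hc'⟩ := hjet p inferInstance hgp t
    have h := hv0 _ hc'
    have e1 : v t = v (t - ∑ i, algebraMap k A (c' i) * a i) + ∑ i, algebraMap k K (c' i) • v (a i) := by
      funext o
      have h' := hVsum c'
      have e2 : V t = V (t - ∑ i, algebraMap k A (c' i) * a i) + ∑ i, algebraMap k L (c' i) • V (a i) := by
        let Vh : A →+ (Option (Fin e) → L) := AddMonoidHom.mk' V hVadd
        have : Vh t = Vh (t - ∑ i, algebraMap k A (c' i) * a i) + Vh (∑ i, algebraMap k A (c' i) * a i) := by
          rw [← map_add, sub_add_cancel]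
        refine this.trans (congrArg (_ + ·) ?_)
        rw [map_sum]
        exact Finset.sum_congr rfl fun i _ => hVsmul (c' i) (a i)
      simp [v, e2, Finset.sum_apply]
    rw [e1, h, zero_add]
    exact Submodule.sum_mem _ fun i _ => Submodule.smul_mem _ _ (Submodule.subset_span ⟨i, rfl⟩)
  have hspanΩ : Submodule.span L (Set.range fun t : A => KaehlerDifferential.D k L (algebraMap A L t)) = ⊤ := by
    rw [eq_top_iff, ← KaehlerDifferential.span_range_derivation, Submodule.span_le]
    rintro _ ⟨y, rfl⟩
    obtain ⟨⟨t, s⟩, hs⟩ := IsLocalization.surj (Submonoid.powers g) y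
    have h1 := congrArg (KaehlerDifferential.D k L) hs
    rw [Derivation.leibniz] at h1
    obtain ⟨u, hu⟩ := IsLocalization.map_units L s
    have h2 : (u : L) • KaehlerDifferential.D k L y =
        KaehlerDifferential.D k L (algebraMap A L t) - y • KaehlerDifferential.D k L (algebraMap A L (s : A)) := by
      rw [← h1, hu]; abel
    have h3 : KaehlerDifferential.D k L y = (↑u⁻¹ : L) • ((u : L) • KaehlerDifferential.D k L y) := by
      rw [smul_smul, Units.inv_mul, one_smul]
    rw [SetLike.mem_coe, h3, h2]
    exact Submodule.smul_mem _ _ (Submodule.sub_mem _ (Submodule.subset_span ⟨t, rfl⟩)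
      (Submodule.smul_mem _ _ (Submodule.subset_span ⟨_, rfl⟩)))
  have htop : ⊤ ≤ Submodule.span K (Set.range fun i => v (a i)) := by
    rw [← (Pi.basisFun K (Option (Fin e))).span_eq, Submodule.span_le]
    rintro _ ⟨o, rfl⟩
    rw [Pi.basisFun_apply, SetLike.mem_coe]
    cases o with
    | none =>
      convert hvjet 1
      funext o
      cases o <;> simp [v, V, lam]
    | some j =>
      have hj : bΩ j ∈ Submodule.span L (Set.range fun t : A => KaehlerDifferential.D k L (algebraMap A L t)) := by
        rw [hspanΩ]; trivial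
      let ev : Ω[L⁄k] → Option (Fin e) → K := fun ω o => o.elim 0 fun i => φ (bΩ.repr ω i)
      have key : ∀ ω ∈ Submodule.span L (Set.range fun t : A => KaehlerDifferential.D k L (algebraMap A L t)),
          ev ω ∈ Submodule.span K (Set.range fun i => v (a i)) := by
        intro ω hω
        induction hω using Submodule.span_induction with
        | mem ω hω =>
          obtain ⟨t, rfl⟩ := hω
          have : ev (KaehlerDifferential.D k L (algebraMap A L t)) = v t - φ (algebraMap A L t) • v 1 := by
            funext o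
            cases o <;> simp [ev, v, V, lam]
          rw [this]
          exact Submodule.sub_mem _ (hvjet t) (Submodule.smul_mem _ _ (hvjet 1))
        | zero =>
          convert Submodule.zero_mem _
          funext o
          cases o <;> simp [ev]
        | add ω ω' _ _ h h' =>
          have : ev (ω + ω') = ev ω + ev ω' := by funext o; cases o <;> simp [ev]
          rw [this]
          exact add_mem h h'
        | smul l ω _ h =>
          have : ev (l • ω) = φ l • ev ω := by funext o; cases o <;> simp [ev]
          rw [this]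
          exact Submodule.smul_mem _ _ h
      convert key _ hj
      funext o
      cases o with
      | none => simp [ev]
      | some i => simp [ev, Finsupp.single_apply, Pi.single_apply, eq_comm, apply_ite φ]
  obtain ⟨κ, τ₀, hτinj, hτspan, hτli⟩ := exists_linearIndependent' K fun i => v (a i)
  haveI : Finite κ := Finite.of_injective τ₀ hτinj
  haveI := Fintype.ofFinite κ
  let bκ := Module.Basis.mk hτli (by rw [hτspan]; exact htop)
  let eκ : Option (Fin e) ≃ κ := (Pi.basisFun K (Option (Fin e))).indexEquiv bκ
  let τ : Option (Fin e) → Fin m := τ₀ ∘ eκ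
  have hne : φ (Matrix.of fun o o' => V (a (τ o')) o).det ≠ 0 := by
    rw [AlgHom.map_det]
    have hli : LinearIndependent K (φ.mapMatrix (Matrix.of fun o o' => V (a (τ o')) o)).col := by
      have : (φ.mapMatrix (Matrix.of fun o o' => V (a (τ o')) o)).col = (fun l => v (a (τ₀ l))) ∘ eκ := by
        funext o o'
        rfl
      rw [this]
      exact hτli.comp _ eκ.injective
    exact ((Matrix.isUnit_iff_isUnit_det _).1 (Matrix.linearIndependent_cols_iff_isUnit.1 hli)).ne_zero
  have hzero : v (b + ∑ i, algebraMap k A (c i) * a i) = 0 := by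
    funext o
    cases o with
    | none => exact (hφr _).trans ((hK _).2 hFp)
    | some j =>
      letI : Algebra L K := φr.toAlgebra
      haveI : IsScalarTower A L K := IsScalarTower.of_algebraMap_eq fun t => (hφr t).symm
      let ωL : Ω[A⁄k] →ₗ[A] K :=
        { toFun := fun ω => algebraMap L K (bΩ.repr (KaehlerDifferential.map k k A L ω) j)
          map_add' := fun x y => by simp
          map_smul' := fun t ω => by
            simp only [map_smul, RingHom.id_apply]
            rw [← algebraMap_smul L t (KaehlerDifferential.map k k A L ω), map_smul, Finsupp.smul_apply, smul_eq_mul,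
              map_mul, ← IsScalarTower.algebraMap_apply, Algebra.smul_def] }
      have h := congrArg (LinearMap.liftBaseChange K ωL) hdF
      rw [LinearMap.liftBaseChange_tmul, one_smul, map_zero] at h
      simp only [ωL, LinearMap.coe_mk, AddHom.coe_mk, KaehlerDifferential.map_D] at h
      exact h
  have hsys : ∀ o, φ (V b o) + ∑ i, algebraMap k K (c i) * φ (V (a i) o) = 0 := fun o => by
    have h := congrFun hzero o
    simp only [v, hVsum c, Pi.add_apply, Finset.sum_apply, Pi.smul_apply, smul_eq_mul, map_add, map_sum, map_mul,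
      AlgHom.commutes, Pi.zero_apply] at h
    exact h
  refine hc ?_
  rw [map_prod]
  exact Finset.prod_eq_zero (Finset.mem_univ τ) (hq τ K φ c hne hsys)

end BertiniJetLib

end
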